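import Mathlib
import Groth.Prelude.Def_RefHull
import Groth.Agent.Lib.Helper23.Inverse
import Groth.Agent.Lib.Helper3.Cocycle
import Groth.Agent.Lib.Helper3.PbBasic

/-!
# The sheaf dual `RefHull.dual` of an invertible module (helper16)

Dual generators, invertibility of the dual, and compatibility of the dual with pullback.
-/

set_option autoImplicit false
universe u
open CategoryTheory CategoryTheory.Limits AlgebraicGeometry TopologicalSpace Opposite
open Scheme.Modules

namespace H16RefDual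

open Groth.Agent.Lib.Helper3 Groth.Agent.Lib.Helper3.QCSec Groth.Agent.Lib.Helper3.InvGen
  Groth.Agent.Lib.Helper3.PbBasic Groth.Agent.Lib.Helper23.Inverse

variable {X : Scheme.{u}} {L : X.Modules}

/-- the germ of the unit section of the structure module -/
noncomputable def oneGerm (y : X) : (Coh.structureModule X).presheaf.stalk y :=
  (Coh.structureModule X).presheaf.germ ⊤ y (Opens.mem_top y) (ofFun ⊤ 1)

theorem germ_ofFun_one (U : X.Opens) (y : X) (hy : y ∈ U) :
    (Coh.structureModule X).presheaf.germ U y hy (ofFun U 1) = oneGerm y := by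
  unfold oneGerm
  rw [← germ_res' (Coh.structureModule X) (le_top : U ≤ ⊤) y hy, res_ofFun, rres_one]

theorem germ_ofFun (U : X.Opens) (a : Γ(X, U)) (y : X) (hy : y ∈ U) :
    (Coh.structureModule X).presheaf.germ U y hy (ofFun U a) =
      X.presheaf.germ U y hy a • oneGerm y := by
  have h : ofFun U a = a • ofFun U 1 := by rw [smul_ofFun, mul_one]
  rw [h, Mero.germ_smul, germ_ofFun_one]

theorem oneGerm_smul_inj (y : X) {c c' : X.presheaf.stalk y}
    (h : c • oneGerm y = c' • oneGerm y) : c = c' := by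
  have hb := (germ_gen_bijective (isGen_one (X := X) ⊤) y (Opens.mem_top y)).1
  apply hb
  rw [LinearMap.toSpanSingleton_apply, LinearMap.toSpanSingleton_apply]
  exact h

/-- sections of the structure module with equal germs are equal -/
theorem strSec_ext {V : X.Opens} (s s' : Γ(Coh.structureModule X, V))
    (h : ∀ y : V, (Coh.structureModule X).presheaf.germ V y.1 y.2 s =
      (Coh.structureModule X).presheaf.germ V y.1 y.2 s') : s = s' := by
  have h1 : toFun V s = toFun V s' := by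
    apply fun_ext_germ
    intro y
    apply oneGerm_smul_inj y.1
    rw [← germ_ofFun, ← germ_ofFun]
    exact h y
  exact h1

/-- coordinate with values in the stalk of the structure module -/
noncomputable def coordR {U : X.Opens} {e : Γ(L, U)} (hg : IsGen L U e) (y : X) (hy : y ∈ U) :
    RefHull.StalkHom L (Coh.structureModule X) y :=
  (LinearMap.toSpanSingleton (X.presheaf.stalk y) _ (oneGerm y)).comp (coord hg y hy)

theorem coordR_apply {U : X.Opens} {e : Γ(L, U)} (hg : IsGen L U e) (y : X) (hy : y ∈ U)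
    (t : L.presheaf.stalk y) : coordR hg y hy t = coord hg y hy t • oneGerm y := rfl

theorem coordR_smul_germ {U : X.Opens} {e : Γ(L, U)} (hg : IsGen L U e) (y : X) (hy : y ∈ U)
    (c : X.presheaf.stalk y) :
    coordR hg y hy (c • L.presheaf.germ U y hy e) = c • oneGerm y := by
  rw [coordR_apply, coord_smul_germ]

theorem coordR_germ {U : X.Opens} {e : Γ(L, U)} (hg : IsGen L U e) (y : X) (hy : y ∈ U) :
    coordR hg y hy (L.presheaf.germ U y hy e) = oneGerm y := by
  rw [coordR_apply, coord_germ, one_smul]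

/-- two linear maps out of the stalk agreeing at the germ of a generator are equal -/
theorem stalkHom_ext {N : X.Modules} {U : X.Opens} {e : Γ(L, U)} (hg : IsGen L U e) (y : X)
    (hy : y ∈ U) (φ ψ : RefHull.StalkHom L N y)
    (h : φ (L.presheaf.germ U y hy e) = ψ (L.presheaf.germ U y hy e)) : φ = ψ := by
  apply LinearMap.ext
  intro t
  obtain ⟨c, rfl⟩ := exists_eq_smul_germ hg y hy t
  rw [LinearMap.map_smul, LinearMap.map_smul, h]

/-- the dual generator -/
noncomputable def dualGenR {U : X.Opens} {e : Γ(L, U)} (hg : IsGen L U e) :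
    Γ(RefHull.dual L, U) :=
  ⟨fun y => coordR hg y.1 y.2, fun V i m x => by
    obtain ⟨a, rfl⟩ := (hg V i.le).exists_coord m
    refine ⟨V, x.2, 𝟙 V, ofFun V a, fun y => ?_⟩
    show coordR hg y.1 _ (L.presheaf.germ V y.1 _ (a • res L i.le e)) = _
    rw [Mero.germ_smul, germ_res', coordR_smul_germ, germ_ofFun]⟩

theorem dualGenR_apply {U : X.Opens} {e : Γ(L, U)} (hg : IsGen L U e) (y : U) :
    (dualGenR hg).1 y = coordR hg y.1 y.2 := rfl

theorem res_dualGenR {U V : X.Opens} {e : Γ(L, U)} (hg : IsGen L U e) (h : V ≤ U) :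
    res (RefHull.dual L) h (dualGenR hg) = dualGenR (hg.mono h) := by
  apply Subtype.ext
  funext y
  change coordR hg y.1 (h y.2) = coordR (hg.mono h) y.1 y.2
  apply stalkHom_ext (hg.mono h) y.1 y.2
  rw [coordR_germ, germ_res', coordR_germ]

theorem isGenAt_dualGenR {U : X.Opens} {e : Γ(L, U)} (hg : IsGen L U e) :
    IsGenAt (RefHull.dual L) U (dualGenR hg) := by
  constructor
  · intro a b hab
    dsimp only at hab
    apply fun_ext_germ
    intro x
    have h1 : X.presheaf.germ U x.1 x.2 a • (dualGenR hg).1 x =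
        X.presheaf.germ U x.1 x.2 b • (dualGenR hg).1 x := congrArg (fun f => f.1 x) hab
    have h2 := congrArg (fun φ : RefHull.StalkHom L (Coh.structureModule X) x.1 =>
      φ (L.presheaf.germ U x.1 x.2 e)) h1
    simp only [LinearMap.smul_apply, dualGenR_apply, coordR_germ] at h2
    exact oneGerm_smul_inj x.1 h2
  · intro f
    have hloc := f.2 U (𝟙 U) e
    choose W hxW j n hn using hloc
    obtain ⟨b, hb⟩ := sec_glue (Coh.structureModule X) (fun x : U => W x) U (fun x => (j x).le)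
      (fun y hy => Opens.mem_iSup.mpr ⟨⟨y, hy⟩, hxW ⟨y, hy⟩⟩) n (by
        intro x x'
        apply strSec_ext
        intro y
        rw [germ_res', germ_res']
        have e1 := hn x ⟨y.1, y.2.1⟩
        have e2 := hn x' ⟨y.1, y.2.2⟩
        exact e1.symm.trans e2)
    refine ⟨toFun U b, ?_⟩
    apply Subtype.ext
    funext x
    change X.presheaf.germ U x.1 x.2 (toFun U b) • coordR hg x.1 x.2 = f.1 x
    apply stalkHom_ext hg x.1 x.2
    rw [LinearMap.smul_apply, coordR_germ, ← germ_ofFun]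
    have h1 := hn x ⟨x.1, hxW x⟩
    rw [← hb x, germ_res'] at h1
    exact h1.symm

theorem isGen_dualGenR {U : X.Opens} {e : Γ(L, U)} (hg : IsGen L U e) :
    IsGen (RefHull.dual L) U (dualGenR hg) := by
  intro V hV
  rw [res_dualGenR hg hV]
  exact isGenAt_dualGenR (hg.mono hV)

theorem dualGenR_eq_smul {W : X.Opens} {m m' : Γ(L, W)} (hm : IsGen L W m) (hm' : IsGen L W m')
    (u : Γ(X, W)) (hu : m' = u • m) : dualGenR hm = u • dualGenR hm' := by
  subst hu
  apply Subtype.ext
  funext y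
  change coordR hm y.1 y.2 = X.presheaf.germ W y.1 y.2 u • coordR hm' y.1 y.2
  apply stalkHom_ext hm' y.1 y.2
  rw [LinearMap.smul_apply, coordR_germ, Mero.germ_smul, coordR_smul_germ]

/-- The dual of an invertible module is invertible. -/
theorem isInvertible_dualR {L : X.Modules} (hL : PicF.IsInvertible L) :
    PicF.IsInvertible (RefHull.dual L) :=
  isInvertible_of_isGen fun x => by
    obtain ⟨U, e, hx, hg⟩ := exists_isGen hL x
    exact ⟨U, dualGenR hg, hx, isGen_dualGenR hg⟩

/-- The dual of an invertible module commutes with pullback. -/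
theorem dual_pullback_iso {X Y : Scheme.{u}} (f : X ⟶ Y) {L : Y.Modules}
    (hL : PicF.IsInvertible L) :
    Nonempty (RefHull.dual ((Scheme.Modules.pullback f).obj L) ≅
      (Scheme.Modules.pullback f).obj (RefHull.dual L)) := by
  choose N e hyN hg using fun y : Y => exists_isGen hL y
  have hηex : ∀ a b : Y, ∃ η : Γ(Y, N a ⊓ N b), IsUnit η ∧
      res L (inf_le_left : N a ⊓ N b ≤ N a) (e a) =
        η • res L (inf_le_right : N a ⊓ N b ≤ N b) (e b) := fun a b =>
    ((hg b).mono inf_le_right).self.exists_unit ((hg a).mono inf_le_left).self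
  choose η hηu hη using hηex
  have hV : iSup (fun a : Y => f ⁻¹ᵁ N a) = ⊤ := by
    rw [eq_top_iff]
    intro x _
    exact Opens.mem_iSup.mpr ⟨f x, hyN (f x)⟩
  -- cocycle of the dual on `Y`
  have hd : ∀ a b, res (RefHull.dual L) (inf_le_left : N a ⊓ N b ≤ N a) (dualGenR (hg a)) =
      (((hηu a b).unit⁻¹ : (Γ(Y, N a ⊓ N b))ˣ) : Γ(Y, N a ⊓ N b)) •
        res (RefHull.dual L) (inf_le_right : N a ⊓ N b ≤ N b) (dualGenR (hg b)) := by
    intro a b
    have h1 := dualGenR_eq_smul ((hg b).mono inf_le_right) ((hg a).mono inf_le_left)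
      (η a b) (hη a b)
    rw [← res_dualGenR (hg b) inf_le_right, ← res_dualGenR (hg a) inf_le_left] at h1
    rw [h1, smul_smul, IsUnit.val_inv_mul, one_smul]
  let θ : ∀ a b, Γ(X, f ⁻¹ᵁ N a ⊓ f ⁻¹ᵁ N b) := fun a b => (f.app (N a ⊓ N b)).hom (η a b)
  let θi : ∀ a b, Γ(X, f ⁻¹ᵁ N a ⊓ f ⁻¹ᵁ N b) := fun a b =>
    (f.app (N a ⊓ N b)).hom (((hηu a b).unit⁻¹ : (Γ(Y, N a ⊓ N b))ˣ) : Γ(Y, N a ⊓ N b))
  have hθ : ∀ a b, θi a b * θ a b = 1 := by
    intro a b
    have h3 : (f.app (N a ⊓ N b)).hom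
        (((hηu a b).unit⁻¹ : (Γ(Y, N a ⊓ N b))ˣ) : Γ(Y, N a ⊓ N b)) *
          (f.app (N a ⊓ N b)).hom (η a b) = 1 := by
      rw [← map_mul, IsUnit.val_inv_mul, map_one]
    exact h3
  -- generators of `f^* L` and their cocycle
  have hp : ∀ a b, res ((Scheme.Modules.pullback f).obj L)
        (inf_le_left : f ⁻¹ᵁ N a ⊓ f ⁻¹ᵁ N b ≤ f ⁻¹ᵁ N a) (pull f L (N a) (e a)) =
      θ a b • res ((Scheme.Modules.pullback f).obj L)
          (inf_le_right : f ⁻¹ᵁ N a ⊓ f ⁻¹ᵁ N b ≤ f ⁻¹ᵁ N b) (pull f L (N b) (e b)) := by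
    intro a b
    have h1 := congrArg (pull f L (N a ⊓ N b)) (hη a b)
    rw [pull_smul, ← res_pull, ← res_pull] at h1
    exact h1
  have hs1 : ∀ a b, res (RefHull.dual ((Scheme.Modules.pullback f).obj L))
        (inf_le_left : f ⁻¹ᵁ N a ⊓ f ⁻¹ᵁ N b ≤ f ⁻¹ᵁ N a) (dualGenR (isGen_pull f (hg a))) =
      θi a b • res (RefHull.dual ((Scheme.Modules.pullback f).obj L))
          (inf_le_right : f ⁻¹ᵁ N a ⊓ f ⁻¹ᵁ N b ≤ f ⁻¹ᵁ N b)
          (dualGenR (isGen_pull f (hg b))) := by
    intro a b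
    have h1 := dualGenR_eq_smul
      ((isGen_pull f (hg b)).mono (inf_le_right : f ⁻¹ᵁ N a ⊓ f ⁻¹ᵁ N b ≤ f ⁻¹ᵁ N b))
      ((isGen_pull f (hg a)).mono (inf_le_left : f ⁻¹ᵁ N a ⊓ f ⁻¹ᵁ N b ≤ f ⁻¹ᵁ N a))
      (θ a b) (hp a b)
    rw [← res_dualGenR (isGen_pull f (hg b)) inf_le_right,
      ← res_dualGenR (isGen_pull f (hg a)) inf_le_left] at h1
    rw [h1, smul_smul, hθ a b, one_smul]
  have hs2 : ∀ a b, res ((Scheme.Modules.pullback f).obj (RefHull.dual L))
        (inf_le_left : f ⁻¹ᵁ N a ⊓ f ⁻¹ᵁ N b ≤ f ⁻¹ᵁ N a)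
        (pull f (RefHull.dual L) (N a) (dualGenR (hg a))) =
      θi a b • res ((Scheme.Modules.pullback f).obj (RefHull.dual L))
          (inf_le_right : f ⁻¹ᵁ N a ⊓ f ⁻¹ᵁ N b ≤ f ⁻¹ᵁ N b)
          (pull f (RefHull.dual L) (N b) (dualGenR (hg b))) := by
    intro a b
    have h1 := congrArg (pull f (RefHull.dual L) (N a ⊓ N b)) (hd a b)
    rw [pull_smul, ← res_pull, ← res_pull] at h1
    exact h1
  exact Cocycle.nonempty_iso_of_units (fun a : Y => f ⁻¹ᵁ N a) hV
    (fun a => dualGenR (isGen_pull f (hg a)))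
    (fun a => pull f (RefHull.dual L) (N a) (dualGenR (hg a)))
    (fun a => isGen_dualGenR (isGen_pull f (hg a)))
    (fun a => isGen_pull f (isGen_dualGenR (hg a)))
    θi θi hs1 hs2 (fun _ => 1) (by
      intro a b
      simp only [Units.val_one]
      rw [rres_one, rres_one, mul_one, one_mul])

end H16RefDual
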